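import Cfsg.Agent.Lib.DegreesPSL2Sq.Cols
import Cfsg.Agent.Lib.BSW.GroupLemmas
import Cfsg.Agent.Lib.Involutions

/-!
The action on the conjugates of the Sylow subgroup.
-/

set_option autoImplicit false

namespace CfsgLib.DegreesPSL2Sq

open Subgroup
open CfsgLib.BSW (IsCC)

universe u

variable {G : Type u} [Group G] [Finite G] {p q u v : ℕ}

/-- An element commuting with a nontrivial `p`-element is a `p`-element. -/
theorem Three.isPGroup_centralizer (h : Three G q u v) [Fact p.Prime] (hq : q = p ^ 2) {x : G}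
    (hx : p ∣ orderOf x) (hxp : ∃ k, orderOf x = p ^ k) :
    IsPGroup p (centralizer ({x} : Set G)) := by
  have hp : p.Prime := Fact.out
  have hC : Nat.card (centralizer ({x} : Set G)) ≠ 0 := Nat.card_pos.ne'
  refine IsPGroup.of_card (Nat.eq_prime_pow_of_unique_prime_dvd hC fun {r} hr hrd => ?_)
  haveI : Fact r.Prime := ⟨hr⟩
  obtain ⟨y, hy⟩ := exists_prime_orderOf_dvd_card' r hrd
  by_contra hne
  obtain ⟨k, hk⟩ := hxp
  have hcop : (orderOf (y : G)).Coprime (orderOf x) := by
    rw [Subgroup.orderOf_coe, hy, hk]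
    exact ((Nat.coprime_primes hr hp).mpr hne).pow_right k
  have hcom : Commute (y : G) x := Subgroup.mem_centralizer_singleton_iff.mp y.2
  have hord := hcom.orderOf_mul_eq_mul_orderOf_of_coprime hcop
  exact hne (h.prime_eq hp hq two_ne_zero (g := (y : G) * x) (hord ▸ hx.mul_left _) hr
    (hord ▸ (by rw [Subgroup.orderOf_coe, hy] : r ∣ orderOf (y : G)).mul_right _))

/-- A self-centralising subgroup of order `q` with normaliser index `i`. -/
structure Borel (G : Type u) [Group G] (Q : Subgroup G) (q i : ℕ) : Prop where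
  cc : IsCC Q
  card_eq : Nat.card Q = q
  index_eq : (normalizer (Q : Set G)).index = i
  two_le : 2 ≤ q
  cop : q.Coprime Q.index

variable {Q : Subgroup G} {i : ℕ}

theorem Borel.fix_iff (x g : G) :
    x • ((g : G ⧸ normalizer (Q : Set G))) = (g : G ⧸ normalizer (Q : Set G)) ↔
      g⁻¹ * x * g ∈ normalizer (Q : Set G) := by
  rw [MulAction.Quotient.smul_coe, smul_eq_mul, QuotientGroup.eq, ← inv_mem_iff]
  simp [mul_assoc]

theorem Borel.fix_one (x : G) :
    x • ((1 : G) : G ⧸ normalizer (Q : Set G)) = ((1 : G) : G ⧸ normalizer (Q : Set G)) ↔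
      x ∈ normalizer (Q : Set G) := by
  rw [Borel.fix_iff]; simp

theorem Borel.mem_normalizer (h : Borel G Q q i) {u g : G} (hu : u ∈ Q) (hu1 : u ≠ 1)
    (hw : g⁻¹ * u * g ∈ normalizer (Q : Set G)) : g ∈ normalizer (Q : Set G) := by
  have hwQ : g⁻¹ * u * g ∈ Q := by
    refine CfsgLib.BSW.mem_of_coprime Q hw (Nat.Coprime.coprime_dvd_left ?_ h.cop)
    have e := CfsgLib.Involutions.orderOf_conj g⁻¹ u
    rw [inv_inv] at e
    rw [e, ← h.card_eq]
    exact Subgroup.orderOf_dvd_natCard _ hu
  exact inv_mem_iff.mp (h.cc.mem_normalizer hu hu1 (by rwa [inv_inv]))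

/-- The action of `Q` away from its fixed point is free. -/
theorem Borel.semi (h : Borel G Q q i) {u : G} (hu : u ∈ Q) {y : G ⧸ normalizer (Q : Set G)}
    (hy : y ≠ ((1 : G) : G ⧸ normalizer (Q : Set G))) (hfy : u • y = y) : u = 1 := by
  obtain ⟨g, rfl⟩ := QuotientGroup.mk_surjective y
  by_contra hu1
  have hg := h.mem_normalizer hu hu1 ((Borel.fix_iff u g).mp hfy)
  exact hy (QuotientGroup.eq.mpr (by rw [mul_one]; exact inv_mem hg))

theorem Borel.smul_ne (u : Q) {y : G ⧸ normalizer (Q : Set G)}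
    (hy : y ≠ ((1 : G) : G ⧸ normalizer (Q : Set G))) :
    (u : G) • y ≠ ((1 : G) : G ⧸ normalizer (Q : Set G)) := fun e => hy (by
  rw [← inv_smul_smul (u : G) y, e]
  exact (Borel.fix_one _).mpr (le_normalizer (inv_mem u.2)))

/-- The number of conjugates is `1` modulo `q`. -/
theorem Borel.index_mod (h : Borel G Q q i) : q ∣ i - 1 := by
  classical
  haveI := Fintype.ofFinite G
  let x₀ : G ⧸ normalizer (Q : Set G) := ((1 : G) : G ⧸ normalizer (Q : Set G))
  letI : MulAction Q {w : G ⧸ normalizer (Q : Set G) // w ≠ x₀} :=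
    { smul := fun u w => ⟨(u : G) • w.1, Borel.smul_ne u w.2⟩
      one_smul := fun w => Subtype.ext (one_smul G w.1)
      mul_smul := fun u v w => Subtype.ext (mul_smul (u : G) (v : G) w.1) }
  have hfree : ∀ w : {w : G ⧸ normalizer (Q : Set G) // w ≠ x₀}, MulAction.stabilizer Q w = ⊥ := by
    intro w
    rw [Subgroup.eq_bot_iff_forall]
    intro u hu
    exact Subtype.ext (h.semi u.2 w.2 (congrArg Subtype.val hu))
  have e := Nat.card_congr (MulAction.selfEquivOrbitsQuotientProd hfree)
  rw [Nat.card_prod, h.card_eq, Nat.card_eq_fintype_card (α := {w : G ⧸ normalizer (Q : Set G) // w ≠ x₀}),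
    Fintype.card_subtype_compl, Fintype.card_subtype_eq, ← Nat.card_eq_fintype_card] at e
  have hi : Nat.card (G ⧸ normalizer (Q : Set G)) = i := h.index_eq
  rw [hi] at e
  exact ⟨_, e.trans (mul_comm _ _)⟩

/-- The automiser of `Q` has order less than `q`. -/
theorem Borel.relIndex_lt (h : Borel G Q q i) :
    (Q.subgroupOf (normalizer (Q : Set G))).index < q := by
  classical
  haveI := Fintype.ofFinite G
  set N := normalizer (Q : Set G)
  obtain ⟨x, hx, hx1⟩ := Q.bot_or_exists_ne_one.resolve_left (fun e => by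
    have := h.card_eq
    rw [e, Subgroup.card_bot] at this
    have := h.two_le
    omega)
  let φ : N ⧸ Q.subgroupOf N → {y : Q // y ≠ 1} := fun c =>
    ⟨⟨(c.out : G) * x * (c.out : G)⁻¹, (Subgroup.mem_normalizer_iff.mp c.out.2 x).mp hx⟩,
      fun e => hx1 (conj_eq_one_iff.mp (congrArg Subtype.val e))⟩
  have hφ : Function.Injective φ := by
    intro c d e
    have e' : (c.out : G) * x * (c.out : G)⁻¹ = (d.out : G) * x * (d.out : G)⁻¹ :=
      congrArg (fun z => ((z.1 : Q) : G)) e
    rw [← c.out_eq, ← d.out_eq]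
    refine QuotientGroup.eq.mpr ?_
    rw [Subgroup.mem_subgroupOf, Subgroup.coe_mul, Subgroup.coe_inv]
    refine (h.cc x hx hx1).le (Subgroup.mem_centralizer_singleton_iff.mpr ?_)
    calc (c.out : G)⁻¹ * (d.out : G) * x
        = (c.out : G)⁻¹ * ((d.out : G) * x * (d.out : G)⁻¹) * (d.out : G) := by group
      _ = (c.out : G)⁻¹ * ((c.out : G) * x * (c.out : G)⁻¹) * (d.out : G) := by rw [e']
      _ = x * ((c.out : G)⁻¹ * (d.out : G)) := by group
  have hle := Nat.card_le_card_of_injective φ hφ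
  rw [Nat.card_eq_fintype_card (α := {y : Q // y ≠ 1}), Fintype.card_subtype_compl,
    Fintype.card_subtype_eq, ← Nat.card_eq_fintype_card, h.card_eq] at hle
  have := h.two_le
  have hidx : (Q.subgroupOf N).index = Nat.card (N ⧸ Q.subgroupOf N) := rfl
  omega

/-- A Sylow `p`-subgroup, with its normaliser's index. -/
theorem Three.exists_borel (h : Three G q u v) [Fact p.Prime] (hq : q = p ^ 2) :
    ∃ (Q : Subgroup G) (i e : ℕ), Borel G Q q i ∧ e < q ∧ q ∣ i - 1 ∧ i * e = u * v ∧
      Nat.card (normalizer (Q : Set G)) = q * e := by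
  have hp : p.Prime := Fact.out
  have hpq : p ∣ q := hq ▸ dvd_pow_self p two_ne_zero
  let S : Sylow p G := default
  have hnd : ¬ p ∣ u * v := fun hd => (hp.dvd_mul.mp hd).elim
    (not_dvd_of_coprime hp h.cop_qu hpq) (not_dvd_of_coprime hp h.cop_qv hpq)
  have hS : Nat.card S = q := by
    rw [S.card_eq_multiplicity, h.card_eq, hq, mul_assoc,
      Nat.factorization_mul (pow_pos hp.pos 2).ne'
        (Nat.mul_pos (zero_lt_one.trans h.one_lt_u) (zero_lt_one.trans h.one_lt_v)).ne',
      Finsupp.add_apply, Nat.factorization_eq_zero_of_not_dvd hnd, add_zero, hp.factorization_pow,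
      Finsupp.single_eq_same]
  have hidx : (S : Subgroup G).index = u * v := by
    have e := (S : Subgroup G).index_mul_card
    rw [h.card_eq, show Nat.card (S : Subgroup G) = q from hS] at e
    refine Nat.eq_of_mul_eq_mul_right (show 0 < q by rw [hq]; exact pow_pos hp.pos 2) ?_
    rw [e]; ring
  have hcc : IsCC (S : Subgroup G) := by
    intro x hx hx1
    have hle : (S : Subgroup G) ≤ centralizer ({x} : Set G) := fun y hy =>
      mem_centralizer_singleton_iff.mpr (congrArg Subtype.val
        (IsPGroup.commutative_of_card_eq_prime_sq (hS.trans hq) ⟨y, hy⟩ ⟨x, hx⟩))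
    have hdx : orderOf x ∣ p ^ 2 := hq ▸ hS ▸ Subgroup.orderOf_dvd_natCard _ hx
    obtain ⟨k, -, hk⟩ := (Nat.dvd_prime_pow hp).mp hdx
    have hk0 : k ≠ 0 := fun e => hx1 (orderOf_eq_one_iff.mp (by rw [hk, e, pow_zero]))
    exact S.is_maximal' (h.isPGroup_centralizer hq (hk ▸ dvd_pow_self p hk0) ⟨k, hk⟩) hle
  have hB : Borel G (S : Subgroup G) q (normalizer ((S : Subgroup G) : Set G)).index :=
    { cc := hcc
      card_eq := hS
      index_eq := rfl
      two_le := by rw [hq]; have := hp.two_le; nlinarith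
      cop := by rw [hidx]; exact h.cop_qu.mul_right h.cop_qv }
  refine ⟨S, _, ((S : Subgroup G).subgroupOf (normalizer ((S : Subgroup G) : Set G))).index, hB,
    hB.relIndex_lt, hB.index_mod, ?_, ?_⟩
  · rw [← hidx, ← Subgroup.relIndex_mul_index (le_normalizer (H := (S : Subgroup G)))]
    exact mul_comm _ _
  · rw [← Subgroup.card_mul_index ((S : Subgroup G).subgroupOf (normalizer ((S : Subgroup G) : Set G))),
      Nat.card_congr (Subgroup.subgroupOfEquivOfLe le_normalizer).toEquiv,
      show Nat.card (S : Subgroup G) = q from hS]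

/-- The basic permutation facts when there are exactly `q + 1` conjugates. -/
theorem Borel.action (h : Borel G Q q (q + 1)) :
    let X := G ⧸ normalizer (Q : Set G)
    let x₀ : X := ((1 : G) : G ⧸ normalizer (Q : Set G))
    FaithfulSMul G X ∧ MulAction.IsMultiplyPretransitive G X 2 ∧
    (∀ g : G, ∀ a b c : X, a ≠ b → b ≠ c → a ≠ c → g • a = a → g • b = b → g • c = c → g = 1) ∧
    (∀ y z : X, y ≠ x₀ → z ≠ x₀ → ∃! u : Q, (u : G) • y = z) := by
  classical
  intro X x₀
  haveI := Fintype.ofFinite G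
  set N := normalizer (Q : Set G) with hN
  have hQN : Q ≤ N := le_normalizer
  have hq := h.two_le
  have hreg : ∀ y z : X, y ≠ x₀ → z ≠ x₀ → ∃! u : Q, (u : G) • y = z := by
    intro y z hy hz
    let f : Q → {w : X // w ≠ x₀} := fun u => ⟨(u : G) • y, Borel.smul_ne u hy⟩
    have hinj : Function.Injective f := by
      intro u v e
      have e' : (u : G) • y = (v : G) • y := congrArg Subtype.val e
      have := h.semi (u := (v : G)⁻¹ * u) (mul_mem (inv_mem v.2) u.2) hy
        (by rw [mul_smul, e', inv_smul_smul])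
      exact Subtype.ext (inv_mul_eq_one.mp this).symm
    have hsurj : Function.Surjective f := by
      have hc : Nat.card {w : X // w ≠ x₀} = Nat.card Q := by
        rw [Nat.card_eq_fintype_card, Fintype.card_subtype_compl, Fintype.card_subtype_eq,
          ← Nat.card_eq_fintype_card]
        show N.index - 1 = _
        rw [h.index_eq, h.card_eq]
        omega
      exact ((Nat.bijective_iff_injective_and_card f).mpr ⟨hinj, hc.symm⟩).2
    obtain ⟨u, hu⟩ := hsurj ⟨z, hz⟩
    refine ⟨u, congrArg Subtype.val hu, fun v hv => hinj ?_⟩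
    rw [hu]
    exact Subtype.ext hv
  have hNne : N ≠ ⊤ := fun e => by
    have := h.index_eq
    rw [← hN, e, index_top] at this
    omega
  obtain ⟨u₀, hu₀, hu₀1⟩ := Q.bot_or_exists_ne_one.resolve_left
    (fun e => by
      have := h.card_eq
      rw [e, Subgroup.card_bot] at this
      omega)
  have hfaith : FaithfulSMul G X := by
    have hcore : N.normalCore = ⊥ := by
      haveI := normalCore_normal N
      have hKQ : ∀ v ∈ N.normalCore, v ∈ Q → v = 1 := by
        intro v hv hvQ
        by_contra hv1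
        refine hNne ((eq_top_iff' N).mpr fun g => h.mem_normalizer hvQ hv1 (g := g) (N.normalCore_le ?_))
        have := (normalCore_normal N).conj_mem v hv g⁻¹
        rwa [inv_inv] at this
      rw [Subgroup.eq_bot_iff_forall]
      intro k hk
      refine hKQ k hk ?_
      rw [← h.cc u₀ hu₀ hu₀1, mem_centralizer_singleton_iff]
      have h1 : k * u₀ * k⁻¹ * u₀⁻¹ = 1 := by
        refine hKQ _ ?_ (mul_mem ((mem_normalizer_iff.mp (N.normalCore_le hk) u₀).mp hu₀) (inv_mem hu₀))
        rw [show k * u₀ * k⁻¹ * u₀⁻¹ = k * (u₀ * k⁻¹ * u₀⁻¹) by group]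
        exact mul_mem hk ((normalCore_normal N).conj_mem _ (inv_mem hk) u₀)
      exact mul_inv_eq_iff_eq_mul.mp (mul_inv_eq_one.mp h1)
    have hker : (MulAction.toPermHom G X).ker = ⊥ := by
      show (MulAction.toPermHom G (G ⧸ N)).ker = ⊥
      rw [← Subgroup.normalCore_eq_ker, hcore]
    exact ⟨fun {a b} h => (MonoidHom.ker_eq_bot_iff _).mp hker (Equiv.ext h)⟩
  obtain ⟨g₀, hg₀⟩ : ∃ g : G, g ∉ N := by
    by_contra hall
    push Not at hall
    exact hNne ((Subgroup.eq_top_iff' N).mpr hall)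
  set y₀ : X := (g₀ : G ⧸ N) with hy₀
  have hy₀ne : y₀ ≠ x₀ := fun e => hg₀ (by
    have := QuotientGroup.eq.mp e
    rwa [mul_one, inv_mem_iff] at this)
  have hmove : ∀ a b : X, a ≠ b → ∃ g : G, g • a = x₀ ∧ g • b = y₀ := by
    intro a b hab
    obtain ⟨g, hg⟩ := MulAction.exists_smul_eq G a x₀
    have hgb : g • b ≠ x₀ := fun e => hab (smul_left_cancel g (hg.trans e.symm))
    obtain ⟨u, hu, -⟩ := hreg (g • b) y₀ hgb hy₀ne
    exact ⟨(u : G) * g, by rw [mul_smul, hg]; exact (Borel.fix_one _).mpr (hQN u.2),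
      by rw [mul_smul, hu]⟩
  refine ⟨hfaith, ?_, ?_, hreg⟩
  · rw [MulAction.is_two_pretransitive_iff]
    intro a b c d hab hcd
    obtain ⟨g, hg1, hg2⟩ := hmove a b hab
    obtain ⟨h', hh1, hh2⟩ := hmove c d hcd
    refine ⟨h'⁻¹ * g, ?_, ?_⟩
    · rw [mul_smul, hg1, ← hh1, inv_smul_smul]
    · rw [mul_smul, hg2, ← hh2, inv_smul_smul]
  · intro g a b c hab hbc hac ha hb hc
    obtain ⟨h', hh⟩ := MulAction.exists_smul_eq G a x₀
    set k := h' * g * h'⁻¹ with hk
    have hkfix : ∀ w : X, g • w = w → k • (h' • w) = h' • w := fun w hw => by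
      rw [hk, mul_smul, mul_smul, inv_smul_smul, hw]
    have hy : h' • b ≠ x₀ := fun e => hab (smul_left_cancel h' (hh.trans e.symm))
    have hz : h' • c ≠ x₀ := fun e => hac (smul_left_cancel h' (hh.trans e.symm))
    have hkN : k ∈ N := (Borel.fix_one k).mp (by
      show k • x₀ = x₀
      rw [← hh]; exact hkfix a ha)
    obtain ⟨u, hu, -⟩ := hreg (h' • b) (h' • c) hy hz
    have hu1 : (u : G) ≠ 1 := fun e => hbc (smul_left_cancel h' (by rwa [e, one_smul] at hu))
    have hwQ : (u : G)⁻¹ * (k * u * k⁻¹) ∈ Q :=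
      mul_mem (inv_mem u.2) ((Subgroup.mem_normalizer_iff.mp hkN u).mp u.2)
    have hw := h.semi hwQ hy (by
      have e1 : k⁻¹ • h' • b = h' • b := by
        have := hkfix b hb
        nth_rewrite 1 [← this]
        rw [inv_smul_smul]
      rw [mul_smul, mul_smul, mul_smul, e1, hu, hkfix c hc, ← hu, inv_smul_smul])
    have hcomm : k * u = u * k := mul_inv_eq_iff_eq_mul.mp (inv_mul_eq_one.mp hw).symm
    have hkQ : k ∈ Q := by
      rw [← h.cc u u.2 hu1]
      exact Subgroup.mem_centralizer_singleton_iff.mpr hcomm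
    have hk1 := h.semi hkQ hy (hkfix b hb)
    rw [hk] at hk1
    exact conj_eq_one_iff.mp hk1

end CfsgLib.DegreesPSL2Sq
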