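import Cfsg.Agent.S0165
import Cfsg.Agent.Lib.CharTheory.Irr
import Cfsg.Agent.Lib.CharTheory.Integral
import Cfsg.Agent.Lib.CharTheory.More

/-!
Column orthogonality in a group with three coprime families of character degrees.
-/

set_option autoImplicit false

namespace CfsgLib.DegreesPSL2Sq

open Cfsg CfsgLib.CharTheory

universe u

variable {G : Type u} [Group G]

theorem deg_spec [Finite G] (χ : IrrCharacter G) :
    (χ : G → ℂ) 1 = (charDegree (χ : G → ℂ) : ℂ) :=
  (charDegree_spec' χ.2).1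

/-- A character whose degree has the full `r`-part of the group order vanishes on `r`-singular
elements. -/
theorem vanish [Finite G] (χ : IrrCharacter G) {r a b : ℕ} (hr : r.Prime)
    (hG : Nat.card G = a * b) (hb : ¬ r ∣ b) (hd : a ∣ charDegree (χ : G → ℂ))
    {g : G} (hg : r ∣ orderOf g) : (χ : G → ℂ) g = 0 := by
  obtain ⟨χ, n, ρ, hρ, rfl⟩ := χ
  haveI := hρ
  have h1 := deg_spec (⟨ρ.character, n, ρ, hρ, rfl⟩ : IrrCharacter G)
  simp only [ρ.char_one] at h1
  have e : Module.finrank ℂ (Fin n → ℂ) = charDegree ρ.character := by exact_mod_cast h1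
  refine Cfsg.Agent.S0165.result ρ r ((Nat.card G).factorization r) hr (Nat.ordProj_dvd _ _)
    (Nat.pow_succ_factorization_not_dvd Nat.card_pos.ne' hr) ?_ g hg
  rw [e]
  refine dvd_trans ?_ hd
  have h2 : r ^ (Nat.card G).factorization r ∣ a * b := hG ▸ Nat.ordProj_dvd _ _
  exact ((hr.coprime_iff_not_dvd.mpr hb).pow_left _).dvd_of_dvd_mul_right h2

/-- A column cannot consist of a single `1` and values weighted by multiples of `w > 1`. -/
theorem no_column [Finite G] {g : G} (hg : g ≠ 1) {w : ℕ} (hw : 1 < w)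
    (h1 : ∀ χ : IrrCharacter G, (χ : G → ℂ) 1 = 1 → (χ : G → ℂ) = fun _ => 1)
    (h : ∀ χ : IrrCharacter G, (χ : G → ℂ) 1 ≠ 1 →
      (χ : G → ℂ) g = 0 ∨ w ∣ charDegree (χ : G → ℂ)) : False := by
  classical
  haveI := Fintype.ofFinite G
  have hsum := sum_irr_apply_mul_degree g
  rw [if_neg hg] at hsum
  set o : IrrCharacter G := ⟨fun _ => 1, isIrrCharacter_one⟩ with ho
  rw [← Finset.add_sum_erase _ _ (Finset.mem_univ o)] at hsum
  have hw0 : (w : ℂ) ≠ 0 := Nat.cast_ne_zero.mpr (by omega)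
  have hterm : ∀ χ ∈ Finset.univ.erase o, ∃ c : ℂ, IsIntegral ℤ c ∧
      (χ : G → ℂ) g * (χ : G → ℂ) 1 = (w : ℂ) * c := by
    intro χ hχ
    have hne : (χ : G → ℂ) 1 ≠ 1 := fun e =>
      (Finset.mem_erase.mp hχ).1 (Subtype.ext (h1 χ e))
    rcases h χ hne with e | ⟨k, hk⟩
    · exact ⟨0, isIntegral_zero, by rw [e, zero_mul, mul_zero]⟩
    · refine ⟨(χ : G → ℂ) g * (k : ℂ),
        (isIntegral_of_char (isCharacter_of_irr χ.2) g).mul
          (map_natCast (algebraMap ℤ ℂ) k ▸ isIntegral_algebraMap), ?_⟩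
      rw [deg_spec χ, hk, Nat.cast_mul]
      ring
  choose! c hc hce using hterm
  rw [Finset.sum_congr rfl hce, ← Finset.mul_sum] at hsum
  have hS : IsIntegral ℤ (∑ χ ∈ Finset.univ.erase o, c χ) := IsIntegral.sum _ hc
  have heq : ∑ χ ∈ Finset.univ.erase o, c χ = (((-1 : ℚ) / w : ℚ) : ℂ) := by
    push_cast
    rw [eq_div_iff hw0]
    linear_combination hsum
  rw [heq] at hS
  obtain ⟨n, hn⟩ := exists_int_of_isIntegral_ratCast hS
  rw [div_eq_iff (by exact_mod_cast (show w ≠ 0 by omega) : (w : ℚ) ≠ 0)] at hn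
  have hn' : (-1 : ℤ) = n * (w : ℤ) := by exact_mod_cast hn
  have hd : (w : ℤ) ∣ 1 := ⟨-n, by linear_combination -hn'⟩
  have := Int.le_of_dvd one_pos hd
  omega

/-- Order `q * u * v` with pairwise coprime factors, one linear character, and every other degree
equal to `q` or divisible by `u` or by `v`. -/
structure Three (G : Type u) [Group G] (q u v : ℕ) : Prop where
  card_eq : Nat.card G = q * u * v
  cop_qu : q.Coprime u
  cop_qv : q.Coprime v
  cop_uv : u.Coprime v
  one_lt_u : 1 < u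
  one_lt_v : 1 < v
  linear : ∀ χ : IrrCharacter G, (χ : G → ℂ) 1 = 1 → (χ : G → ℂ) = fun _ => 1
  deg : ∀ χ : IrrCharacter G, (χ : G → ℂ) 1 ≠ 1 →
    q ∣ charDegree (χ : G → ℂ) ∨ u ∣ charDegree (χ : G → ℂ) ∨ v ∣ charDegree (χ : G → ℂ)

variable {q u v : ℕ}

theorem Three.symm (h : Three G q u v) : Three G q v u where
  card_eq := by rw [h.card_eq]; ring
  cop_qu := h.cop_qv
  cop_qv := h.cop_qu
  cop_uv := h.cop_uv.symm
  one_lt_u := h.one_lt_v
  one_lt_v := h.one_lt_u
  linear := h.linear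
  deg := fun χ hχ => (h.deg χ hχ).imp id Or.symm

theorem not_dvd_of_coprime {r a b : ℕ} (hr : r.Prime) (hab : a.Coprime b) (ha : r ∣ a) : ¬ r ∣ b :=
  fun hb => hr.not_dvd_one (hab ▸ Nat.dvd_gcd ha hb)

theorem Three.not_pr [Finite G] (h : Three G q u v) {p r : ℕ} (hp : p.Prime) (hr : r.Prime)
    (hpq : p ∣ q) (hru : r ∣ u) {g : G} (hgp : p ∣ orderOf g) (hgr : r ∣ orderOf g) : False := by
  refine no_column (g := g) (fun e => hp.not_dvd_one (by rwa [e, orderOf_one] at hgp)) h.one_lt_v h.linear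
    fun χ hχ => ?_
  rcases h.deg χ hχ with hd | hd | hd
  · exact Or.inl (vanish χ hp (h.card_eq.trans (mul_assoc q u v))
      (fun hd' => (hp.dvd_mul.mp hd').elim (not_dvd_of_coprime hp h.cop_qu hpq)
        (not_dvd_of_coprime hp h.cop_qv hpq)) hd hgp)
  · exact Or.inl (vanish χ hr (show Nat.card G = u * (q * v) by rw [h.card_eq]; ring)
      (fun hd' => (hr.dvd_mul.mp hd').elim (not_dvd_of_coprime hr h.cop_qu.symm hru)
        (not_dvd_of_coprime hr h.cop_uv hru)) hd hgr)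
  · exact Or.inr hd

/-- The only prime dividing the order of an element whose order is divisible by `p` is `p`. -/
theorem Three.prime_eq [Finite G] (h : Three G q u v) {p f : ℕ} (hp : p.Prime) (hq : q = p ^ f)
    (hf : f ≠ 0) {g : G} (hgp : p ∣ orderOf g) {r : ℕ} (hr : r.Prime) (hgr : r ∣ orderOf g) :
    r = p := by
  by_contra hne
  have hd : r ∣ q * u * v := h.card_eq ▸ hgr.trans (orderOf_dvd_natCard g)
  have hpq : p ∣ q := hq ▸ dvd_pow_self p hf
  rcases hr.dvd_mul.mp hd with hd | hd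
  · rcases hr.dvd_mul.mp hd with hd | hd
    · exact hne ((Nat.prime_dvd_prime_iff_eq hr hp).mp (hr.dvd_of_dvd_pow (hq ▸ hd)))
    · exact h.not_pr hp hr hpq hd hgp hgr
  · exact h.symm.not_pr hp hr hpq hd hgp hgr

end CfsgLib.DegreesPSL2Sq
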