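import Cfsg.Agent.Lib.SL2Char.DegreeGraph
import Cfsg.Agent.Lib.CharTheory.Integral

/-!
The character degrees of `PSL₂(q)` when `q ≢ 3 (mod 4)`.
-/

set_option autoImplicit false

namespace CfsgLib.DegreesPSL2Sq

open Matrix Cfsg CfsgLib.CharTheory CfsgLib.SL2Char
open scoped Classical

universe u

variable {F : Type u} [Field F] [Fintype F]

local notation "SL2" => Matrix.SpecialLinearGroup (Fin 2) F
local notation "PSL" => Matrix.ProjectiveSpecialLinearGroup (Fin 2) F
local notation "qC" => (Fintype.card F : ℂ)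

theorem neg_scal : (-1 : Fˣ) ^ 2 = 1 := by rw [sq, neg_mul_neg, one_mul]

theorem torus_card_pow_eq_one {C : Type*} [CommGroup C] [Finite C] [IsCyclic C] {z c : C}
    (hz : z ^ 2 = 1) (hz1 : z ≠ 1) (hc : c ^ 2 = 1) : c = 1 ∨ c = z := by
  haveI := Fintype.ofFinite C
  by_contra h
  push Not at h
  have h3 : ({1, z, c} : Finset C) ⊆ Finset.univ.filter fun a => a ^ 2 = 1 := by
    intro a ha
    simp only [Finset.mem_insert, Finset.mem_singleton] at ha
    rcases ha with rfl | rfl | rfl <;> simp [hz, hc]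
  have hle := (Finset.card_le_card h3).trans (IsCyclic.card_pow_eq_one_le (α := C) (n := 2) two_pos)
  have e3 : ({1, z, c} : Finset C).card = 3 := by
    rw [Finset.card_insert_of_notMem, Finset.card_pair (Ne.symm h.2)]
    simp only [Finset.mem_insert, Finset.mem_singleton]
    rintro (e | e)
    · exact hz1 e.symm
    · exact h.1 e.symm
  omega

/-- For `q ≡ 1 (mod 4)` the smaller half-size characters are faithful on the centre. -/
theorem halves_not_center [DecidableEq F] (C : Subgroup SL2) (hC : IsCyclic C)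
    (hcard : Nat.card C = Fintype.card F + 1) (h2 : (2 : F) ≠ 0) (h4 : Fintype.card F % 4 = 1)
    (H : Halves C) {χ : SL2 → ℂ} (hχ : χ = H.m₁ ∨ χ = H.m₂)
    (hk : χ (bor (-1 : Fˣ) 0) = χ 1) : False := by
  haveI := hC
  letI : CommGroup C := IsCyclic.commGroup
  set z : C := ⟨bor (-1 : Fˣ) 0, bor_scalar_mem C hC hcard (-1) neg_scal⟩ with hz
  have hne : (-1 : Fˣ) ≠ 1 := fun e => h2 (by
    have e' : (-1 : F) = 1 := congrArg (fun a : Fˣ => (a : F)) e
    linear_combination -e')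
  have hz1 : z ≠ 1 := fun e => hne (by
    have e' : bor (-1 : Fˣ) (0 : F) = bor 1 0 := by
      rw [bor_one]; exact congrArg Subtype.val e
    exact (bor_injective e').1)
  have hz2 : z ^ 2 = 1 := Subtype.ext (by
    show bor (-1 : Fˣ) (0 : F) ^ 2 = 1
    rw [sq, bor_mul, ← sq, neg_scal]
    simpa using bor_one (F := F))
  have hsq : ∀ c : C, H.θ₀ c ^ 2 = 1 := fun c => DFunLike.congr_fun H.θ₀_sq c
  have hθz : H.θ₀ z ≠ 1 := by
    intro e
    refine H.θ₀_ne (MonoidHom.ext fun c => ?_)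
    show H.θ₀ c = 1
    obtain ⟨k, hk⟩ : ∃ k, (Fintype.card F + 1) / 2 = 2 * k + 1 := ⟨Fintype.card F / 4, by omega⟩
    have hc : (c ^ ((Fintype.card F + 1) / 2)) ^ 2 = 1 := by
      rw [← pow_mul, show (Fintype.card F + 1) / 2 * 2 = Nat.card C by rw [hcard]; omega]
      exact pow_card_eq_one'
    have h1 : H.θ₀ (c ^ ((Fintype.card F + 1) / 2)) = H.θ₀ c := by
      rw [map_pow, hk, pow_add, pow_mul, hsq, one_pow, one_mul, pow_one]
    rcases torus_card_pow_eq_one hz2 hz1 hc with e1 | e1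
    · rw [← h1, e1, map_one]
    · rw [← h1, e1, e]
  have hval : ((H.θ₀ z : ℂˣ) : ℂ) = -1 := by
    have h1 : ((H.θ₀ z : ℂˣ) : ℂ) ^ 2 = 1 := by
      rw [← Units.val_pow_eq_pow_val, hsq, Units.val_one]
    rcases sq_eq_one_iff.mp h1 with e | e
    · exact absurd (Units.ext e) hθz
    · exact e
  have hds : H.m₁ (bor (-1 : Fˣ) 0) + H.m₂ (bor (-1 : Fˣ) 0) = -(qC - 1) := by
    have e := congrFun H.m_sum (bor (-1 : Fˣ) 0)
    rw [ds_bor_scalar C hC hcard H.θ₀ neg_scal, ← hz, hval, Pi.add_apply] at e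
    rw [← e]; ring
  have hq := Fintype.one_lt_card (α := F)
  have hreal : ∀ ψ : SL2 → ℂ, IsIrrCharacter SL2 ψ → ψ 1 = (qC - 1) / 2 →
      ψ (bor (-1 : Fˣ) 0) = -(3 * (qC - 1) / 2) → False := by
    intro ψ hψ h1 hv
    have hle := norm_char_le (isCharacter_of_irr hψ) (bor (-1 : Fˣ) 0)
    rw [h1, hv, norm_neg] at hle
    have e : 3 * (qC - 1) / 2 = ((3 : ℝ) : ℂ) * ((qC - 1) / 2) := by push_cast; ring
    rw [e, norm_mul, Complex.norm_real, Real.norm_eq_abs, abs_of_pos (by norm_num : (0 : ℝ) < 3)] at hle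
    have hpos : 0 < ‖(qC - 1) / 2‖ := norm_pos_iff.mpr (div_ne_zero (qC_sub_ne (F := F)) two_ne_zero)
    linarith
  rcases hχ with rfl | rfl
  · refine hreal _ H.irr_m₂ H.m₂_one ?_
    rw [hk, H.m₁_one] at hds
    linear_combination hds
  · refine hreal _ H.irr_m₁ H.m₁_one ?_
    rw [hk, H.m₂_one] at hds
    linear_combination hds

/-- The degrees of `PSL₂(q)` for `q ≢ 3 (mod 4)`. -/
theorem psl_cases (h4 : Fintype.card F % 4 ≠ 3) (hq : 4 ≤ Fintype.card F) {ψ : PSL → ℂ}
    (hψ : IsIrrCharacter PSL ψ) :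
    ψ = (fun _ => 1) ∨ charDegree ψ = Fintype.card F ∨ charDegree ψ = Fintype.card F + 1 ∨
      charDegree ψ + 1 = Fintype.card F ∨ 2 * charDegree ψ = Fintype.card F + 1 := by
  set mk : SL2 →* PSL := QuotientGroup.mk' _ with hmk
  have hs : Function.Surjective mk := QuotientGroup.mk'_surjective _
  set χ : SL2 → ℂ := fun x => ψ (mk x) with hχdef
  have hχ : IsIrrCharacter SL2 χ := isIrrCharacter_comp_surjective hψ mk hs
  have hone : χ 1 = ψ 1 := by show ψ (mk 1) = ψ 1; rw [map_one]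
  obtain ⟨C, hC, hcard⟩ := exists_torus (F := F)
  obtain ⟨d, -, hd⟩ := irr_degree_pos hψ
  rw [charDegree_of_eq hd]
  rcases degree_cases C hC hcard hχ with ⟨e, -⟩ | ⟨-, e⟩ | ⟨α, -, -, e⟩ | ⟨θ, -, -, e⟩ |
    ⟨-, H, -, e⟩ | ⟨h2, H, hH, e⟩
  · left
    funext y
    obtain ⟨x, rfl⟩ := hs y
    exact congrFun e x
  all_goals rw [hone, hd] at e
  · exact Or.inr (Or.inl (by exact_mod_cast e))
  · exact Or.inr (Or.inr (Or.inl (by exact_mod_cast e)))
  · exact Or.inr (Or.inr (Or.inr (Or.inl (natCast_inj' (by push_cast; linear_combination e)))))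
  · exact Or.inr (Or.inr (Or.inr (Or.inr (natCast_inj' (by push_cast; linear_combination e)))))
  · exfalso
    have hodd := odd_card h2
    refine halves_not_center C hC hcard h2 (by omega) H hH ?_
    show ψ (mk (bor (-1 : Fˣ) 0)) = ψ (mk 1)
    congr 1
    rw [map_one]
    refine (QuotientGroup.eq_one_iff _).mpr ?_
    rw [Subgroup.mem_center_iff]
    exact fun g => (scalar_comm (-1 : Fˣ) neg_scal g).eq.symm

end CfsgLib.DegreesPSL2Sq
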