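import Cfsg.Agent.Lib.DegreesPSL2Sq.Recog
import Cfsg.Agent.Lib.DegreesPSL2Sq.Degrees
import Cfsg.Agent.Lib.SLShort.Shrink

/-!
`PSL₂(p²)` is determined by its multiset of character degrees.
-/

set_option autoImplicit false

namespace CfsgLib.DegreesPSL2Sq

open Cfsg CfsgLib.CharTheory

universe u v

section Transfer

variable {G : Type u} [Group G] [Finite G] {H : Type v} [Group H] [Finite H]

theorem exists_equiv
    (h : ∀ d : ℕ, Nat.card {χ : IrrCharacter G // (χ : G → ℂ) 1 = (d : ℂ)} =
      Nat.card {χ : IrrCharacter H // (χ : H → ℂ) 1 = (d : ℂ)}) :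
    ∃ e : IrrCharacter G ≃ IrrCharacter H, ∀ χ : IrrCharacter G,
      charDegree (e χ : H → ℂ) = charDegree (χ : G → ℂ) := by
  classical
  haveI := Fintype.ofFinite G
  haveI := Fintype.ofFinite H
  have key : ∀ d : ℕ, Nonempty ({χ : IrrCharacter G // charDegree (χ : G → ℂ) = d} ≃
      {χ : IrrCharacter H // charDegree (χ : H → ℂ) = d}) := fun d => by
    refine Finite.card_eq.mp ?_
    refine (Nat.card_congr (Equiv.subtypeEquivRight fun χ => ?_)).trans
      ((h d).trans (Nat.card_congr (Equiv.subtypeEquivRight fun χ => ?_)))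
    · rw [deg_spec χ, Nat.cast_inj]
    · rw [deg_spec χ, Nat.cast_inj]
  exact ⟨Equiv.ofFiberEquiv (f := fun χ : IrrCharacter G => charDegree (χ : G → ℂ))
    (g := fun χ : IrrCharacter H => charDegree (χ : H → ℂ)) fun d => (key d).some,
    fun χ => Equiv.ofFiberEquiv_map (fun d => (key d).some) χ⟩

theorem card_eq_of_equiv (e : IrrCharacter G ≃ IrrCharacter H)
    (he : ∀ χ : IrrCharacter G, charDegree (e χ : H → ℂ) = charDegree (χ : G → ℂ)) :
    Nat.card G = Nat.card H := by
  classical
  haveI := Fintype.ofFinite G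
  haveI := Fintype.ofFinite H
  have h : (Nat.card G : ℂ) = (Nat.card H : ℂ) := by
    rw [← sum_irr_degree_sq (G := G), ← sum_irr_degree_sq (G := H)]
    exact Fintype.sum_equiv e _ _ fun χ => by rw [deg_spec χ, deg_spec (e χ), he]
  exact_mod_cast h

end Transfer

section Setup

variable {F : Type v} [Field F] [Fintype F] {G : Type u} [Group G] [Finite G]

local notation "PSL" => Matrix.ProjectiveSpecialLinearGroup (Fin 2) F

/-- A group with the degrees of `PSL₂(q)`, `q ≢ 3 (mod 4)`, has the three-family shape. -/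
theorem three_of_degrees {u v : ℕ} (h4 : Fintype.card F % 4 ≠ 3) (hq : 4 ≤ Fintype.card F)
    (e : IrrCharacter G ≃ IrrCharacter PSL)
    (he : ∀ χ : IrrCharacter G, charDegree (e χ : PSL → ℂ) = charDegree (χ : G → ℂ))
    (hc : Nat.card PSL = Fintype.card F * u * v)
    (hu : u ∣ Fintype.card F + 1) (hu' : 2 * u = Fintype.card F + 1 ∨ u = Fintype.card F + 1)
    (hv : v + 1 = Fintype.card F) (hcop : u.Coprime v) : Three G (Fintype.card F) u v where
  card_eq := (card_eq_of_equiv e he).trans hc
  cop_qu := Nat.Coprime.coprime_dvd_right hu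
    (Nat.coprime_self_add_right.mpr (Nat.coprime_one_right _))
  cop_qv := by rw [← hv]; exact Nat.coprime_self_add_left.mpr (Nat.coprime_one_left _)
  cop_uv := hcop
  one_lt_u := by omega
  one_lt_v := by omega
  linear := by
    intro χ hχ
    have key : ∀ φ : IrrCharacter G, charDegree (φ : G → ℂ) = 1 → (e φ : PSL → ℂ) = fun _ => 1 := by
      intro φ hφ
      rcases psl_cases h4 hq (e φ).2 with h | h | h | h | h
      · exact h
      all_goals (rw [he, hφ] at h; omega)
    have h1 : charDegree (χ : G → ℂ) = 1 := SL2Char.charDegree_of_eq (by rw [hχ, Nat.cast_one])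
    have h2 : charDegree (fun _ : G => (1 : ℂ)) = 1 :=
      SL2Char.charDegree_of_eq (d := 1) Nat.cast_one.symm
    have he' : e χ = e ⟨fun _ => 1, isIrrCharacter_one⟩ :=
      Subtype.ext ((key χ h1).trans (key ⟨fun _ => 1, isIrrCharacter_one⟩ h2).symm)
    exact congrArg Subtype.val (e.injective he')
  deg := by
    intro χ hχ
    rcases psl_cases h4 hq (e χ).2 with h | h | h | h | h
    · exfalso
      have h1 : charDegree (e χ : PSL → ℂ) = 1 := by
        rw [h]; exact SL2Char.charDegree_of_eq (d := 1) Nat.cast_one.symm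
      rw [he] at h1
      exact hχ (by rw [deg_spec χ, h1, Nat.cast_one])
    · exact Or.inl (by rw [← he, h])
    · exact Or.inr (Or.inl (by rw [← he, h]; exact hu))
    · exact Or.inr (Or.inr (by rw [← he, show charDegree (e χ : PSL → ℂ) = v by omega]))
    · refine Or.inr (Or.inl ?_)
      rcases hu' with hu' | hu'
      · rw [← he, show charDegree (e χ : PSL → ℂ) = u by omega]
      · exfalso
        have h2 : ¬ 2 ∣ Fintype.card F + 1 := by
          intro hd
          have : 2 ∣ u := hu' ▸ hd
          have h2v : 2 ∣ v := by omega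
          exact absurd (hcop ▸ Nat.dvd_gcd this h2v) (by norm_num)
        exact h2 ⟨_, h.symm⟩

end Setup

/-- `PSL₂(p²)` is determined by the degrees of its irreducible characters. -/
theorem main {F : Type v} [Field F] [Fintype F] (p : ℕ) (hp : p.Prime)
    (hF : Fintype.card F = p ^ 2) {G : Type u} [Group G] [Finite G]
    (h : ∀ d : ℕ, Nat.card {χ : IrrCharacter G // (χ : G → ℂ) 1 = (d : ℂ)} =
      Nat.card {χ : IrrCharacter (Matrix.ProjectiveSpecialLinearGroup (Fin 2) F) //
        (χ : Matrix.ProjectiveSpecialLinearGroup (Fin 2) F → ℂ) 1 = (d : ℂ)}) :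
    Nonempty (G ≃* Matrix.ProjectiveSpecialLinearGroup (Fin 2) F) := by
  classical
  haveI : Fact p.Prime := ⟨hp⟩
  obtain ⟨e, he⟩ := exists_equiv h
  have hc := CfsgLib.DicksonFull.card_psl (F := F)
  obtain ⟨e', he'⟩ := exists_equiv (G := Matrix.ProjectiveSpecialLinearGroup (Fin 2) F)
    (H := Matrix.ProjectiveSpecialLinearGroup (Fin 2) F) fun _ => rfl
  by_cases hp2 : p = 2
  · subst hp2
    have hq : Fintype.card F = 4 := by rw [hF]; norm_num
    rw [hq] at hc
    rw [show Nat.gcd 2 (4 - 1) = 1 from rfl, one_mul] at hc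
    have hc' : Nat.card (Matrix.ProjectiveSpecialLinearGroup (Fin 2) F) = Fintype.card F * 5 * 3 := by
      rw [hq, hc]; rfl
    have key : ∀ {X : Type _} [Group X] [Finite X] (e : IrrCharacter X ≃ IrrCharacter
        (Matrix.ProjectiveSpecialLinearGroup (Fin 2) F)),
        (∀ χ : IrrCharacter X, charDegree (e χ : Matrix.ProjectiveSpecialLinearGroup (Fin 2) F → ℂ) =
          charDegree (χ : X → ℂ)) → Three X 4 5 3 := fun e he =>
      hq ▸ three_of_degrees (u := 5) (v := 3) (by omega) (by omega) e he hc' (by omega) (Or.inr (by omega))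
        (by omega) (by norm_num)
    obtain ⟨a⟩ := (key e he).recognise_four
    obtain ⟨b⟩ := (hq ▸ three_of_degrees (u := 5) (v := 3) (by omega) (by omega) e' he' hc' (by omega)
      (Or.inr (by omega)) (by omega) (by norm_num) :
      Three (Matrix.ProjectiveSpecialLinearGroup (Fin 2) F) 4 5 3).recognise_four
    exact ⟨a.trans b.symm⟩
  · obtain ⟨c, hc4⟩ : ∃ c, p ^ 2 = 4 * c + 1 := by
      obtain ⟨k, hk⟩ := hp.odd_of_ne_two hp2
      exact ⟨k * k + k, by rw [hk]; ring⟩
    have hp3 : 3 ≤ p := by have := hp.two_le; omega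
    have hc2 : 2 ≤ c := by nlinarith
    have hq : Fintype.card F = 4 * c + 1 := hF.trans hc4
    have hcard : Nat.card (Matrix.ProjectiveSpecialLinearGroup (Fin 2) F) =
        Fintype.card F * (2 * c + 1) * (4 * c) := by
      rw [hq, Nat.gcd_eq_left (show 2 ∣ 4 * c + 1 - 1 by omega),
        show (4 * c + 1) ^ 2 - 1 = 2 * ((2 * c + 1) * (4 * c)) from Nat.sub_eq_of_eq_add (by ring)] at hc
      rw [hq]
      refine Nat.eq_of_mul_eq_mul_left two_pos (hc.trans ?_)
      ring
    have hcop : (2 * c + 1).Coprime (4 * c) := by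
      rw [show 4 * c = 2 * (2 * c) by ring]
      refine Nat.Coprime.mul_right ?_ ?_
      · exact Nat.coprime_two_right.mpr ⟨c, rfl⟩
      · exact Nat.coprime_self_add_left.mpr (Nat.coprime_one_left _) |>.symm.symm
    have hT := three_of_degrees (u := 2 * c + 1) (v := 4 * c) (by omega) (by omega) e he hcard
      ⟨2, by omega⟩ (Or.inl (by omega)) (by omega) hcop
    obtain ⟨K, iK, iF, hK, ⟨φ⟩⟩ := hT.recognise_odd hF hp2 (by omega) (by omega) (by omega)
    exact ⟨φ.trans (CfsgLib.SLShort.pslCongr 2 (FiniteField.ringEquivOfCardEq hK))⟩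

end CfsgLib.DegreesPSL2Sq
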