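import Cfsg.Agent.Lib.DegreesPSL2Sq.Borel
import Cfsg.Agent.Lib.DicksonFull.Subgroups
import Cfsg.Agent.S0731

/-!
Recognition from the action on `q + 1` points.
-/

set_option autoImplicit false

namespace CfsgLib.DegreesPSL2Sq

open Subgroup

universe u

variable {G : Type u} [Group G] [Finite G] {p q u v : ℕ}

/-- In the group of order `60` the action on five points is that of `A₅`. -/
theorem Three.recognise_four (h : Three G 4 5 3) :
    Nonempty (G ≃* alternatingGroup (Fin 5)) := by
  classical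
  haveI : Fact (Nat.Prime 2) := ⟨Nat.prime_two⟩
  haveI := Fintype.ofFinite G
  obtain ⟨Q, i, e, hB, he, hmod, hie, -⟩ := h.exists_borel (p := 2) (by norm_num)
  have hi : i = 4 + 1 := by
    interval_cases e <;> omega
  subst hi
  obtain ⟨hfaith, -, -, -⟩ := hB.action
  let X := G ⧸ normalizer (Q : Set G)
  have hX : Fintype.card X = 5 := by rw [← Nat.card_eq_fintype_card]; exact hB.index_eq
  haveI : FaithfulSMul G X := hfaith
  let φ := MulAction.toPermHom G X
  have hinj : Function.Injective φ := MulAction.toPerm_injective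
  have hr : φ.range.index = 2 := by
    have h1 := φ.range.index_mul_card
    rw [← Nat.card_congr (MonoidHom.ofInjective hinj).toEquiv, h.card_eq,
      Nat.card_perm, Nat.card_eq_fintype_card, hX, show (5 : ℕ).factorial = 120 from rfl] at h1
    omega
  exact ⟨(MonoidHom.ofInjective hinj).trans
    ((MulEquiv.subgroupCongr (Equiv.Perm.eq_alternatingGroup_of_index_eq_two hr)).trans
      (Equiv.altCongrHom (Fintype.equivFinOfCardEq hX)))⟩

/-- The odd case. -/
theorem Three.recognise_odd [Fact p.Prime] (hq : q = p ^ 2) (hp : p ≠ 2) (hu : q + 1 = 2 * u)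
    (hv : v + 1 = q) (hodd : ¬ 2 ∣ u) (h : Three G q u v) :
    ∃ (K : Type) (_ : Field K) (_ : Fintype K), Fintype.card K = q ∧
      Nonempty (G ≃* Matrix.ProjectiveSpecialLinearGroup (Fin 2) K) := by
  classical
  have hpp : p.Prime := Fact.out
  haveI := Fintype.ofFinite G
  have hq9 : 9 ≤ q := by
    rw [hq]
    have : 3 ≤ p := by have := hpp.two_le; omega
    nlinarith
  obtain ⟨Q, i, e, hB, he, hmod, hie, hNcard⟩ := h.exists_borel hq
  -- the automiser has order `(q - 1) / 2`
  have he2 : 2 * e + 1 = q := by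
    obtain ⟨k, hk⟩ := hmod
    have hi0 : 0 < i := Nat.pos_of_ne_zero fun e0 => by
      rw [e0, zero_mul] at hie
      have := Nat.mul_pos (zero_lt_one.trans h.one_lt_u) (zero_lt_one.trans h.one_lt_v)
      omega
    have hik : i = q * k + 1 := by omega
    have hd : q ∣ 2 * e + 1 := by
      have e1 : (q : ℤ) * (q - 2 * (e : ℤ) * k) = 2 * e + 1 := by
        have h1 : ((i : ℤ) * e) = (u : ℤ) * v := by exact_mod_cast hie
        have h2 : (q : ℤ) + 1 = 2 * u := by exact_mod_cast hu
        have h3 : (v : ℤ) + 1 = q := by exact_mod_cast hv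
        have h4 : (i : ℤ) = q * k + 1 := by exact_mod_cast hik
        rw [h4] at h1
        linear_combination -2 * h1 + (q - 1 : ℤ) * h2 - (2 * (u : ℤ)) * h3
      exact Int.natCast_dvd_natCast.mp ⟨_, by push_cast; exact e1.symm⟩
    obtain ⟨c, hc⟩ := hd
    have hc2 : c < 2 := by
      by_contra hge
      push Not at hge
      have := Nat.mul_le_mul_left q hge
      omega
    interval_cases c <;> omega
  have he4 : 4 ≤ e := by omega
  have hi : i = q + 1 := by
    refine Nat.eq_of_mul_eq_mul_right (show 0 < e by omega) ?_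
    rw [hie]
    have h2v : v = 2 * e := by omega
    rw [h2v, hu]; ring
  subst hi
  obtain ⟨hfaith, h2, h3, hreg⟩ := hB.action
  let N := normalizer (Q : Set G)
  let x₀ : G ⧸ N := ((1 : G) : G ⧸ N)
  have hX : Nat.card (G ⧸ N) = q + 1 := hB.index_eq
  have hex : ∃ g : G, g ≠ 1 ∧ ∃ a b : G ⧸ N, a ≠ b ∧ g • a = a ∧ g • b = b := by
    by_contra hno
    push Not at hno
    obtain ⟨y₀, hy₀⟩ : ∃ y : G ⧸ N, y ≠ x₀ := by
      haveI : Nontrivial (G ⧸ N) := Finite.one_lt_card_iff_nontrivial.mp (by omega)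
      exact exists_ne x₀
    have hmem : ∀ n : N, (n : G) • y₀ ≠ x₀ := fun n e => hy₀ (by
      rw [← inv_smul_smul (n : G) y₀, e]
      exact (Borel.fix_one _).mpr (inv_mem n.2))
    have hinj : Function.Injective (fun n : N => (⟨(n : G) • y₀, hmem n⟩ : {w : G ⧸ N // w ≠ x₀})) := by
      intro n m e
      have e' : (n : G) • y₀ = (m : G) • y₀ := congrArg Subtype.val e
      by_contra hne
      refine hno ((m : G)⁻¹ * n) (fun e1 => hne (Subtype.ext (inv_mul_eq_one.mp e1).symm)) x₀ y₀
        (Ne.symm hy₀) ((Borel.fix_one _).mpr (mul_mem (inv_mem m.2) n.2)) ?_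
      rw [mul_smul, e', inv_smul_smul]
    have hc := Nat.card_le_card_of_injective _ hinj
    rw [Nat.card_eq_fintype_card (α := {w : G ⧸ N // w ≠ x₀}), Fintype.card_subtype_compl,
      Fintype.card_subtype_eq, ← Nat.card_eq_fintype_card (α := G ⧸ N), hX] at hc
    have : Nat.card N = q * e := hNcard
    have := Nat.mul_le_mul_left q he4
    omega
  have hnr : ∀ M : Subgroup G, M.Normal → MulAction.IsPretransitive M (G ⧸ N) →
      ∃ a : G ⧸ N, MulAction.stabilizer M a ≠ ⊥ := by
    intro M hM htr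
    by_contra hno
    push Not at hno
    have hMcard : Nat.card M = q + 1 := by
      have h1 := MulAction.index_stabilizer_of_transitive M x₀
      rw [hno x₀, index_bot] at h1
      exact h1.trans hX
    haveI : Fact (Nat.Prime 2) := ⟨Nat.prime_two⟩
    obtain ⟨t, ht⟩ := exists_prime_orderOf_dvd_card' (G := M) 2 (hMcard ▸ ⟨u, hu⟩)
    have ht1 : (t : G) ≠ 1 := fun e => by
      rw [← Subgroup.orderOf_coe, e, orderOf_one] at ht; omega
    have htQ : (t : G) ∉ Q := fun hm => by
      have h1 := Subgroup.orderOf_dvd_natCard _ hm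
      rw [Subgroup.orderOf_coe, ht, hB.card_eq, hq] at h1
      exact hp ((Nat.prime_dvd_prime_iff_eq Nat.prime_two hpp).mp (Nat.prime_two.dvd_of_dvd_pow h1)).symm
    let f : Q → {m : M // m ≠ 1} := fun a =>
      ⟨⟨(a : G) * t * (a : G)⁻¹, hM.conj_mem _ t.2 _⟩,
        fun e => ht1 (conj_eq_one_iff.mp (congrArg Subtype.val e))⟩
    have hinj : Function.Injective f := by
      intro a b e
      have e' : (a : G) * t * (a : G)⁻¹ = (b : G) * t * (b : G)⁻¹ :=
        congrArg (fun z => ((z.1 : M) : G)) e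
      by_contra hne
      have hab : ((b⁻¹ * a : Q) : G) ≠ 1 := fun e1 => hne (inv_mul_eq_one.mp
        (Subtype.ext e1 : b⁻¹ * a = 1)).symm
      refine htQ ((hB.cc _ (b⁻¹ * a).2 hab).le (Subgroup.mem_centralizer_singleton_iff.mpr ?_))
      calc (t : G) * ((b⁻¹ * a : Q) : G)
          = (b : G)⁻¹ * ((b : G) * t * (b : G)⁻¹) * (a : G) := by
            push_cast; group
        _ = (b : G)⁻¹ * ((a : G) * t * (a : G)⁻¹) * (a : G) := by rw [e']
        _ = ((b⁻¹ * a : Q) : G) * t := by push_cast; group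
    have hbij : Function.Bijective f := (Nat.bijective_iff_injective_and_card f).mpr ⟨hinj, by
      rw [hB.card_eq, Nat.card_eq_fintype_card (α := {m : M // m ≠ 1}), Fintype.card_subtype_compl,
        Fintype.card_subtype_eq, ← Nat.card_eq_fintype_card, hMcard]
      omega⟩
    have hsq : ∀ m : M, m ^ 2 = 1 := by
      intro m
      by_cases hm : m = 1
      · rw [hm, one_pow]
      obtain ⟨a, ha⟩ := hbij.2 ⟨m, hm⟩
      have ha' : (a : G) * t * (a : G)⁻¹ = (m : G) := congrArg (fun z => ((z.1 : M) : G)) ha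
      refine Subtype.ext ?_
      rw [Subgroup.coe_pow, ← ha', conj_pow, ← Subgroup.coe_pow, ← ht, pow_orderOf_eq_one,
        Subgroup.coe_one]
      group
    haveI : Fact u.minFac.Prime := ⟨Nat.minFac_prime (by have := h.one_lt_u; omega)⟩
    obtain ⟨r, hr⟩ := exists_prime_orderOf_dvd_card' (G := M) u.minFac
      (hMcard ▸ hu ▸ (Nat.minFac_dvd u).mul_left 2)
    have hd : u.minFac ∣ 2 := hr ▸ orderOf_dvd_of_pow_eq_one (hsq r)
    exact hodd (((Nat.prime_dvd_prime_iff_eq Fact.out Nat.prime_two).mp hd) ▸ Nat.minFac_dvd u)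
  have hZ : Cfsg.IsZassenhausGroup G (G ⧸ N) := ⟨hfaith, h2, h3, hex, hnr⟩
  have hstab : MulAction.stabilizer G x₀ = N := by
    ext g
    exact MulAction.mem_stabilizer_iff.trans (Borel.fix_one g)
  have hQab : IsMulCommutative Q := ⟨⟨fun a b => by
    by_cases hb : (b : G) = 1
    · exact Subtype.ext (by simp [hb])
    · exact Subtype.ext (Subgroup.mem_centralizer_singleton_iff.mp ((hB.cc b b.2 hb).ge a.2))⟩⟩
  have hQn : (Q.subgroupOf (MulAction.stabilizer G x₀)).Normal := by
    rw [hstab]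
    infer_instance
  have hord : 2 * Nat.card G = q * (q + 1) * v := by rw [h.card_eq, hu]; ring
  rcases Cfsg.Agent.S0731.result hZ x₀ Q (le_normalizer.trans hstab.ge) hQn hQab hreg with
    ⟨h3t, h3s⟩ | ⟨K, iK, iF, hchar, hiso⟩
  · exfalso
    have hcard : Fintype.card (G ⧸ N) = q + 1 := by rw [← Nat.card_eq_fintype_card]; exact hX
    let t : Fin 3 ↪ G ⧸ N :=
      ((Fin.castLEEmb (hcard.symm ▸ (show 3 ≤ q + 1 by omega) : 3 ≤ Fintype.card (G ⧸ N))).trans
        (Fintype.equivFin (G ⧸ N)).symm.toEmbedding)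
    haveI := h3t
    have hc : (MulAction.stabilizer G t).index = Nat.card (Fin 3 ↪ G ⧸ N) :=
      MulAction.index_stabilizer_of_transitive G t
    rw [h3s t, Subgroup.index_bot, Nat.card_eq_fintype_card (α := Fin 3 ↪ G ⧸ N),
      Fintype.card_embedding_eq, Fintype.card_fin, hcard] at hc
    simp only [Nat.descFactorial_succ, Nat.descFactorial_zero, Nat.sub_zero, mul_one] at hc
    rw [show q + 1 - 1 = q by omega, show q + 1 - 2 = v by omega] at hc
    have e1 : v * (q * (q + 1)) = q * (q + 1) * v := by ring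
    have := (Nat.card_pos : 0 < Nat.card G)
    omega
  · refine ⟨K, iK, iF, ?_, hiso⟩
    obtain ⟨φ⟩ := hiso
    have hodd' := FiniteField.odd_card_of_char_ne_two hchar
    have hc := CfsgLib.DicksonFull.card_psl (F := K)
    rw [Nat.gcd_eq_left (show 2 ∣ Fintype.card K - 1 by omega), ← Nat.card_congr φ.toEquiv, hord] at hc
    obtain ⟨s, hs⟩ : ∃ s, Fintype.card K = s + 1 := ⟨Fintype.card K - 1, by omega⟩
    have hsq : (s + 1) ^ 2 - 1 = (s + 2) * s := Nat.sub_eq_of_eq_add (by ring)
    rw [hs, hsq, ← hv] at hc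
    rw [hs, ← hv]
    rcases Nat.lt_trichotomy s v with hlt | e' | hgt
    · exfalso
      have h1 : (s + 1) * (s + 2) < (v + 1) * (v + 1 + 1) :=
        Nat.mul_lt_mul_of_lt_of_le (by omega) (by omega) (by omega)
      have h2 := Nat.mul_lt_mul_of_lt_of_le h1 hlt.le (by omega)
      rw [← mul_assoc] at hc
      omega
    · rw [e']
    · exfalso
      have h1 : (v + 1) * (v + 1 + 1) < (s + 1) * (s + 2) :=
        Nat.mul_lt_mul_of_lt_of_le (by omega) (by omega) (by omega)
      have h2 := Nat.mul_lt_mul_of_lt_of_le h1 hgt.le (by omega)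
      rw [← mul_assoc] at hc
      omega

end CfsgLib.DegreesPSL2Sq
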